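import Cfsg.Agent.Cam.Red.Basic
import Cfsg.Agent.SignalizersComponents.Components
import Cfsg.Agent.SignalizersComponents.ComponentExists

/-!
# S3689, S3690: the reduction, part 2 (helper53)

Components of `N0 H g`: `redCls : RedCls` (R3), `redCent : RedCent` (R7); `inner_of_perfect` (Schreier).
-/

set_option autoImplicit false

namespace Cfsg.Agent.Cam.Rd

open Subgroup Cfsg.Agent.Cam Cfsg.Agent.Cam.Spor Cfsg.Agent.SignalizersComponents

section schreier
variable {G : Type} [Group G] [Finite G]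

/-- a perfect subgroup normalizing a simple subgroup `T` acts on it by inner automorphisms -/
theorem inner_of_perfect (big : Big) {T Y : Subgroup G} (hs : IsSimpleGroup T) (hY : ⁅Y, Y⁆ = Y)
    (hn : Y ≤ normalizer (T : Set G)) {y : G} (hy : y ∈ Y) :
    ∃ t ∈ T, t⁻¹ * y ∈ centralizer (T : Set G) := by
  have hsol := big.sch T
  let f : normalizer (T : Set G) →* Cfsg.Out T := (QuotientGroup.mk' (Cfsg.Inn T)).comp T.normalizerMonoidHom
  have hp : ⁅Y.subgroupOf (normalizer (T : Set G)), Y.subgroupOf (normalizer (T : Set G))⁆ =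
      Y.subgroupOf (normalizer (T : Set G)) := by
    apply map_injective (normalizer (T : Set G)).subtype_injective
    rw [map_commutator, map_subgroupOf_eq_of_le hn, hY]
  have h1 := TwoFusion.PerfCore.le_ker_of_perfect hp f inferInstance (x := ⟨y, hn hy⟩) (mem_subgroupOf.2 hy)
  rw [MonoidHom.mem_ker] at h1
  have h2 : T.normalizerMonoidHom ⟨y, hn hy⟩ ∈ Cfsg.Inn T := (QuotientGroup.eq_one_iff _).1 h1
  obtain ⟨t, ht⟩ := h2
  refine ⟨t, t.2, mem_centralizer_iff.2 fun v hv => ?_⟩
  have h3 : (t : G) * v * (t : G)⁻¹ = y * v * y⁻¹ := by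
    have := congrArg (fun φ : MulAut T => ((φ ⟨v, hv⟩ : T) : G)) ht
    simpa using this
  calc v * ((t : G)⁻¹ * y) = (t : G)⁻¹ * (t * v * (t : G)⁻¹) * y := by group
    _ = _ := by rw [h3]; group

end schreier

section comp
variable {G : Type} [Group G]

/-- `T` is a component of `N` -/
def Cmp (N T : Subgroup G) : Prop := T ≤ N ∧ IsComponent (T.subgroupOf N)

theorem Cmp.quasi {N T : Subgroup G} (h : Cmp N T) : IsQuasisimple T :=
  Components.isQuasisimple_of_mulEquiv (subgroupOfEquivOfLe h.1) h.2.2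

theorem Cmp.of {N T : Subgroup G} (h : T ≤ N) (hs : (T.subgroupOf N).IsSubnormal) (hq : IsQuasisimple T) : Cmp N T :=
  ⟨h, hs, Components.isQuasisimple_of_mulEquiv (subgroupOfEquivOfLe h).symm hq⟩

theorem Cmp.cj {N T : Subgroup G} (h : Cmp N T) (a : G) : Cmp (cj a N) (cj a T) :=
  Cmp.of (cj_mono a h.1) (subnormal_cj a h.2.1) (Components.isQuasisimple_of_mulEquiv (cjEquiv a T) h.quasi)

theorem Cmp.of_map {N : Subgroup G} {K : Subgroup N} (h : IsComponent K) : Cmp N (K.map N.subtype) := by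
  refine ⟨map_subtype_le K, ?_⟩
  rwa [subgroupOf, comap_map_eq_self_of_injective N.subtype_injective]

theorem Cmp.comm {N T₁ T₂ : Subgroup G} (h₁ : Cmp N T₁) (h₂ : Cmp N T₂) (hne : T₁ ≠ T₂) :
    ∀ a ∈ T₁, ∀ b ∈ T₂, a * b = b * a := by
  intro a ha b hb
  have h := Components.component_le_centralizer_of_ne h₁.2 h₂.2 fun e => hne (by
    rw [← map_subgroupOf_eq_of_le h₁.1, e, map_subgroupOf_eq_of_le h₂.1])
  have h2 := mem_centralizer_iff.1 (h (x := ⟨a, h₁.1 ha⟩) (mem_subgroupOf.2 ha)) ⟨b, h₂.1 hb⟩ (mem_subgroupOf.2 hb)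
  exact (congrArg Subtype.val h2).symm

variable [Finite G] {S H : Subgroup G} {g : G}

theorem normal_solv_eq_bot (c : Conf S H g) {K : Subgroup (N0 H g)} (hK : K.Normal) (hs : Group.IsSolvable K) :
    K = ⊥ := by
  have h := redSolv G S H g c (K.map (N0 H g).subtype) (map_subtype_le K)
    (fun n hn => mem_normalizer_of (by
      rintro _ ⟨y, hy, rfl⟩
      exact ⟨_, hK.conj_mem y hy ⟨n, hn⟩, rfl⟩)) (ComponentExists.isSolvable_map hs _)
  exact (map_eq_bot_iff_of_injective _ (N0 H g).subtype_injective).1 h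

theorem fitting_eq_bot (c : Conf S H g) : fittingSubgroup (N0 H g) = ⊥ := by
  rw [eq_bot_iff, fittingSubgroup]
  refine sSup_le fun K hK => ?_
  have := hK.2
  exact (normal_solv_eq_bot c hK.1 inferInstance).le

/-- every non-trivial normal subgroup of `N0 H g` contains a component -/
theorem exists_comp_le (c : Conf S H g) {K : Subgroup (N0 H g)} (hK : K.Normal) (h : K ≠ ⊥) :
    ∃ L : Subgroup (N0 H g), IsComponent L ∧ L ≤ K :=
  ComponentExists.exists_isComponent_le hK.isSubnormal (fun hs => h (normal_solv_eq_bot c hK hs)) (by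
    rw [fitting_eq_bot c]
    intro x _
    rw [mem_centralizer_iff]
    intro y hy
    rw [SetLike.mem_coe, mem_bot] at hy
    rw [hy, one_mul, mul_one])

theorem exists_cmp (c : Conf S H g) : ∃ T, Cmp (N0 H g) T := by
  have : Nontrivial (N0 H g) := (nontrivial_iff_ne_bot _).2 c.ne_bot
  obtain ⟨L, hL, -⟩ := exists_comp_le c (K := ⊤) inferInstance top_ne_bot
  exact ⟨_, Cmp.of_map hL⟩

theorem Cmp.simple (c : Conf S H g) {T : Subgroup G} (h : Cmp (N0 H g) T) : IsSimpleGroup T := by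
  set K := T.subgroupOf (N0 H g)
  have hZ : center K = ⊥ := by
    have h1 : ((center K).map K.subtype).IsSubnormal := (inferInstance : (center K).Normal).isSubnormal.trans' h.2.1
    obtain ⟨M, hM, hs, hle⟩ := ComponentExists.exists_normal_isSolvable_of_isSubnormal h1
      (ComponentExists.isSolvable_map (Group.isSolvable_of_comm fun a b =>
        Subtype.ext (mem_center_iff.1 b.2 a)) _)
    rw [normal_solv_eq_bot c hM hs, le_bot_iff] at hle
    exact (map_eq_bot_iff_of_injective _ K.subtype_injective).1 hle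
  have h2 := h.2.2.2
  have e : (K ⧸ center K) ≃* K := (QuotientGroup.quotientMulEquivOfEq hZ).trans QuotientGroup.quotientBot
  exact (MulEquiv.isSimpleGroup_congr (e.trans (subgroupOfEquivOfLe h.1))).1 h2

omit [Finite G] in
theorem Cmp.noncomm {N T : Subgroup G} (h : Cmp N T) : ¬ IsMulCommutative T :=
  Components.quasisimple_not_isMulCommutative h.quasi

theorem Cmp.inv (c : Conf S H g) {T : Subgroup G} (h : Cmp (N0 H g) T) {a : G} (ha : a ∈ H) :
    Cmp (N0 H g) (Cam.cj a T) := by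
  have := h.cj a
  rwa [cj_N0_eq c ha] at this

theorem perfect_le_S (big : Big) (c : Setup S H) {Y : Subgroup G} (hY : ⁅Y, Y⁆ = Y) : Y ≤ S := by
  intro y hy
  have := c.normal
  obtain ⟨t, ht, h⟩ := inner_of_perfect big c.simple hY (by rw [normalizer_eq_top]; exact le_top) hy
  rw [c.cent, mem_bot, inv_mul_eq_one] at h
  exact h ▸ ht

end comp

/-- [R3] -/
theorem redCls : RedCls := by
  intro big G _ _ S H g c
  obtain ⟨T₀, h₀⟩ := exists_cmp c
  refine ⟨{T | Cmp (N0 H g) T ∧ ∃ γ : G, T = cj γ T₀},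
    { toConf := c
      nonempty := ⟨T₀, h₀, 1, (cj_one _).symm⟩
      tsimple := fun T hT => hT.1.simple c
      tnoncomm := fun T hT => hT.1.noncomm
      le_N0 := fun T hT => hT.1.1
      le_S := fun T hT => perfect_le_S big c.toSetup (perfect_of_simple (hT.1.simple c) hT.1.noncomm)
      comm := fun T₁ h₁ T₂ h₂ hne => h₁.1.comm h₂.1 hne
      inv := ?_
      conj := ?_
      closed := ?_ }⟩
  · rintro h hh T ⟨hT, γ, rfl⟩
    exact ⟨hT.inv c hh, γ * h, (cj_mul _ _ _).symm⟩
  · rintro T₁ ⟨-, γ₁, rfl⟩ T₂ ⟨-, γ₂, rfl⟩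
    exact ⟨γ₁⁻¹ * γ₂, by rw [← cj_mul, mul_inv_cancel_left]⟩
  · rintro T ⟨hT, γ₁, rfl⟩ γ hle hs
    exact ⟨Cmp.of hle hs (Components.isQuasisimple_of_mulEquiv (cjEquiv γ _) hT.quasi), γ₁ * γ, (cj_mul _ _ _).symm⟩

/-- [R7] -/
theorem redCent : RedCent := by
  intro G _ _ S H g c h hh hc
  set E : Subgroup G := sSup {T | Cmp (N0 H g) T} with hE
  have hEN : E ≤ N0 H g := sSup_le fun T hT => hT.1
  obtain ⟨T₀, h₀⟩ := exists_cmp c
  have hE0 : E ≠ ⊥ := fun e => by
    have h1 : T₀ = ⊥ := eq_bot_iff.2 (e ▸ le_sSup h₀)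
    have := h₀.simple c
    exact (nontrivial_iff_ne_bot T₀).1 inferInstance h1
  have hH : H ≤ normalizer (E : Set G) := fun a ha => mem_normalizer_of fun y hy =>
    cj_sSup_le (a := a⁻¹) (fun T hT => le_sSup (Cmp.inv c hT (inv_mem ha))) (conj_mem_cj_inv hy)
  have hN := norm_eq c hE0 (hEN.trans (N0_le H g)) hH
  have h1 : ∀ T, Cmp (N0 H g) T → g * h * g⁻¹ ∈ centralizer (T : Set G) := fun T hT => by
    have := hc T hT.1 hT.2
    rwa [centralizer_cj, mem_cj] at this
  have h2 : g * h * g⁻¹ ∈ centralizer (E : Set G) := by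
    have : E ≤ centralizer ({g * h * g⁻¹} : Set G) := sSup_le fun T hT t ht =>
      mem_centralizer_singleton_iff.2 (mem_centralizer_iff.1 (h1 T hT) t ht)
    exact mem_centralizer_iff.2 fun y hy => mem_centralizer_singleton_iff.1 (this hy)
  have h3 : g * h * g⁻¹ ∈ N0 H g := mem_N0.2 ⟨hN ▸ centralizer_le_normalizer _ h2, by simpa [mul_assoc] using hh⟩
  have := Components.layer_normal (N0 H g)
  have h4 : centralizer (layer (N0 H g) : Set (N0 H g)) = ⊥ := by
    by_contra hne
    obtain ⟨L, hL, hle⟩ := exists_comp_le c inferInstance hne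
    apply Components.quasisimple_not_isMulCommutative hL.2
    exact ⟨⟨fun a b => Subtype.ext (mem_centralizer_iff.1 (hle b.2) a (Components.component_le_layer hL a.2))⟩⟩
  have h5 : (⟨_, h3⟩ : N0 H g) ∈ centralizer (layer (N0 H g) : Set (N0 H g)) := by
    have : layer (N0 H g) ≤ centralizer {(⟨_, h3⟩ : N0 H g)} := Components.layer_le_iff.2 fun K hK k hk =>
      mem_centralizer_singleton_iff.2 (Subtype.ext (mem_centralizer_iff.1 (h1 _ (Cmp.of_map hK)) k ⟨k, hk, rfl⟩))
    exact mem_centralizer_iff.2 fun y hy => mem_centralizer_singleton_iff.1 (this hy)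
  rw [h4, mem_bot] at h5
  have h6 : g * h * g⁻¹ = 1 := congrArg Subtype.val h5
  simpa using h6

end Cfsg.Agent.Cam.Rd
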