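import Cfsg.Agent.Cam.Iface
import Cfsg.Agent.Cam.Spor.Tools

/-!
# S3689, S3690: the reduction, part 1 (helper53)

Calculus of `cj`; `redNorm : RedNorm` (R1) and `redSolv : RedSolv` (R2).
-/

set_option autoImplicit false

namespace Cfsg.Agent.Cam.Rd

open Subgroup Cfsg.Agent.Cam Cfsg.Agent.Cam.Spor

section cj
variable {G : Type} [Group G]

theorem cj_mul (a b : G) (Y : Subgroup G) : cj (a * b) Y = cj b (cj a Y) := by
  ext x
  simp only [mem_cj, mul_inv_rev, mul_assoc]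

theorem cj_one (Y : Subgroup G) : cj (1 : G) Y = Y := by
  ext x
  simp [mem_cj]

theorem cj_inv_cj (a : G) (Y : Subgroup G) : cj a⁻¹ (cj a Y) = Y := by
  rw [← cj_mul, mul_inv_cancel, cj_one]

theorem cj_cj_inv (a : G) (Y : Subgroup G) : cj a (cj a⁻¹ Y) = Y := by
  rw [← cj_mul, inv_mul_cancel, cj_one]

theorem cj_inj {a : G} {Y Z : Subgroup G} (h : cj a Y = cj a Z) : Y = Z := by
  rw [← cj_inv_cj a Y, h, cj_inv_cj]

theorem cj_mono (a : G) {Y Z : Subgroup G} (h : Y ≤ Z) : cj a Y ≤ cj a Z := fun _ hx => mem_cj.2 (h (mem_cj.1 hx))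

theorem mem_cj_inv {a x : G} {Y : Subgroup G} : x ∈ cj a⁻¹ Y ↔ a⁻¹ * x * a ∈ Y := by
  rw [mem_cj, inv_inv]

theorem conj_mem_cj' {a y : G} {Y : Subgroup G} (hy : y ∈ Y) : a⁻¹ * y * a ∈ cj a Y := by
  rw [mem_cj]
  simpa [mul_assoc] using hy

theorem conj_mem_cj_inv {a y : G} {Y : Subgroup G} (hy : y ∈ Y) : a * y * a⁻¹ ∈ cj a⁻¹ Y := by
  rw [mem_cj]
  simpa [mul_assoc] using hy

theorem cj_eq_iff {a : G} {Y : Subgroup G} : cj a Y = Y ↔ a ∈ normalizer (Y : Set G) := by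
  rw [mem_normalizer_iff]
  constructor
  · intro h y
    rw [← mem_cj, h]
  · intro h
    ext y
    rw [mem_cj, ← h]

theorem cj_bot (a : G) : cj a (⊥ : Subgroup G) = ⊥ := Subgroup.map_bot _

theorem cj_eq_bot {a : G} {Y : Subgroup G} (h : cj a Y = ⊥) : Y = ⊥ := cj_inj (h.trans (cj_bot a).symm)

theorem cj_inf (a : G) (Y Z : Subgroup G) : cj a (Y ⊓ Z) = cj a Y ⊓ cj a Z := by
  ext x
  simp only [mem_cj, mem_inf]

theorem cj_sSup_le {a : G} {s : Set (Subgroup G)} {Z : Subgroup G} (h : ∀ T ∈ s, cj a T ≤ Z) : cj a (sSup s) ≤ Z := by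
  have : sSup s ≤ cj a⁻¹ Z := sSup_le fun T hT => by
    rw [← cj_inv_cj a T]
    exact cj_mono _ (h T hT)
  rw [← cj_cj_inv a Z]
  exact cj_mono _ this

theorem normalizer_cj (a : G) (Y : Subgroup G) :
    normalizer ((cj a Y : Subgroup G) : Set G) = cj a (normalizer (Y : Set G)) := by
  ext x
  rw [mem_cj, ← cj_eq_iff, ← cj_eq_iff, cj_mul, cj_mul]
  constructor
  · intro h
    rw [h, cj_inv_cj]
  · intro h
    have := congrArg (cj a) h
    rwa [cj_cj_inv] at this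

theorem centralizer_cj (a : G) (Y : Subgroup G) :
    centralizer ((cj a Y : Subgroup G) : Set G) = cj a (centralizer (Y : Set G)) := by
  ext x
  rw [mem_cj, mem_centralizer_iff, mem_centralizer_iff]
  constructor
  · intro h y hy
    have := h _ (conj_mem_cj' (a := a) hy)
    calc y * (a * x * a⁻¹) = a * (a⁻¹ * y * a * x) * a⁻¹ := by group
      _ = _ := by rw [this]; group
  · intro h y hy
    have := h _ (mem_cj.1 hy)
    calc y * x = a⁻¹ * (a * y * a⁻¹ * (a * x * a⁻¹)) * a := by group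
      _ = _ := by rw [this]; group

/-- `Y ≃ a⁻¹ Y a` -/
noncomputable def cjEquiv (a : G) (Y : Subgroup G) : Y ≃* cj a Y :=
  Y.equivMapOfInjective (MulAut.conj a⁻¹).toMonoidHom (MulAut.conj a⁻¹).injective

theorem card_cj (a : G) (Y : Subgroup G) : Nat.card (cj a Y) = Nat.card Y :=
  (Nat.card_congr (cjEquiv a Y).toEquiv).symm

theorem simple_cj (a : G) {Y : Subgroup G} (h : IsSimpleGroup Y) : IsSimpleGroup (cj a Y) :=
  (MulEquiv.isSimpleGroup_congr (cjEquiv a Y)).1 h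

theorem noncomm_of_equiv {U V : Type*} [Group U] [Group V] (e : U ≃* V) (h : ¬ IsMulCommutative U) :
    ¬ IsMulCommutative V := fun h' =>
  h ⟨⟨fun a b => e.injective (by rw [map_mul, map_mul]; exact h'.is_comm.comm _ _)⟩⟩

theorem noncomm_cj (a : G) {Y : Subgroup G} (h : ¬ IsMulCommutative Y) : ¬ IsMulCommutative (cj a Y) :=
  noncomm_of_equiv (cjEquiv a Y) h

theorem cj_normal {S : Subgroup G} (hS : S.Normal) (a : G) : cj a S = S :=
  cj_eq_iff.2 (by rw [normalizer_eq_top]; exact mem_top a)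

theorem cj_N0 (H : Subgroup G) (g : G) : cj g (N0 H g) = H ⊓ cj g H := by
  rw [N0, cj_inf, cj_cj_inv, inf_comm]

theorem cj_N0_le (H : Subgroup G) (g : G) : cj g (N0 H g) ≤ H := by
  rw [cj_N0]
  exact inf_le_left

theorem N0_le (H : Subgroup G) (g : G) : N0 H g ≤ H := inf_le_left

/-- transport of subnormality along conjugation -/
theorem subnormal_cj (a : G) {T N : Subgroup G} (h : (T.subgroupOf N).IsSubnormal) :
    ((cj a T).subgroupOf (cj a N)).IsSubnormal := by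
  have h1 := h.map (f := (cjEquiv a N).toMonoidHom) (cjEquiv a N).surjective
  convert h1 using 1
  ext ⟨x, hx⟩
  rw [mem_subgroupOf, mem_map]
  constructor
  · intro h2
    refine ⟨⟨a * x * a⁻¹, mem_cj.1 hx⟩, mem_subgroupOf.2 (mem_cj.1 h2), Subtype.ext ?_⟩
    change a⁻¹ * (a * x * a⁻¹) * a⁻¹⁻¹ = x
    group
  · rintro ⟨y, hy, e⟩
    have e' : a⁻¹ * (y : G) * a⁻¹⁻¹ = x := congrArg Subtype.val e
    change x ∈ cj a T
    rw [← e', inv_inv]
    exact conj_mem_cj' (mem_subgroupOf.1 hy)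

end cj

/-- [R1] -/
theorem redNorm : RedNorm := by
  intro G _ _ S H c Y hY hS hH
  rcases eq_or_lt_of_le hH with h | h
  · exact h.symm
  exfalso
  have hn : Y.Normal := normalizer_eq_top_iff.1 (c.coatom.2 _ h)
  have := c.normal
  rcases eq_bot_or_eq (T := S) (N := Y ⊓ S) c.simple inf_le_right
    (fun t ht n hn' => mem_inf.2 ⟨hn.conj_mem _ hn'.1 t, S.mul_mem (S.mul_mem ht hn'.2) (S.inv_mem ht)⟩) with h1 | h1
  · apply hY
    rw [eq_bot_iff, ← c.cent, ← commutator_eq_bot_iff_le_centralizer, eq_bot_iff, ← h1]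
    exact commutator_le_inf Y S
  · exact hS (h1.ge.trans inf_le_left)

section conf
variable {G : Type} [Group G] [Finite G] {S H : Subgroup G} {g : G}

omit [Finite G] in
theorem H_ne_bot (c : Conf S H g) : H ≠ ⊥ := fun h => c.ne_bot (eq_bot_iff.2 (h ▸ N0_le H g))

theorem H_norm_N0 (c : Conf S H g) : H ≤ normalizer ((N0 H g : Subgroup G) : Set G) := fun h hh =>
  mem_normalizer_of fun n hn => c.nrm h hh n hn

theorem cj_N0_eq (c : Conf S H g) {h : G} (hh : h ∈ H) : cj h (N0 H g) = N0 H g := cj_eq_iff.2 (H_norm_N0 c hh)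

theorem norm_eq (c : Conf S H g) {Y : Subgroup G} (hY : Y ≠ ⊥) (hle : Y ≤ H) (hH : H ≤ normalizer (Y : Set G)) :
    normalizer (Y : Set G) = H :=
  redNorm G S H c.toSetup Y hY (fun h => c.not_le (h.trans hle)) hH

theorem cj_ne (c : Conf S H g) : cj g H ≠ H := fun h =>
  c.not_mem (norm_eq c (H_ne_bot c) le_rfl le_normalizer ▸ cj_eq_iff.1 h)

/-- a non-trivial normal subgroup `Y` of `H` is not contained in `g⁻¹ Y g` -/
theorem not_le_cj (c : Conf S H g) {Y : Subgroup G} (hY : Y ≠ ⊥) (hle : Y ≤ H) (hH : H ≤ normalizer (Y : Set G)) :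
    ¬ Y ≤ cj g Y := by
  intro h
  have h1 : Y = cj g Y := eq_of_le_of_card_ge h (card_cj g Y).le
  have h2 := norm_eq c hY hle hH
  apply cj_ne c
  rw [← h2, ← normalizer_cj, ← h1]

theorem pgroup_eq_bot (c : Conf S H g) {p : ℕ} [Fact p.Prime] {Y : Subgroup G} (hY : Y ≤ N0 H g)
    (hn : N0 H g ≤ normalizer (Y : Set G)) (hp : IsPGroup p Y) : Y = ⊥ := by
  obtain ⟨P, hP⟩ := Set.Finite.exists_maximal
    (s := {Y : Subgroup G | Y ≤ N0 H g ∧ N0 H g ≤ normalizer (Y : Set G) ∧ IsPGroup p Y}) (Set.toFinite _)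
    ⟨Y, hY, hn, hp⟩
  obtain ⟨h1, h2, h3⟩ := hP.prop
  have hmax : ∀ Z : Subgroup G, Z ≤ N0 H g → N0 H g ≤ normalizer (Z : Set G) → IsPGroup p Z → Z ≤ P := by
    intro Z a b d
    refine le_sup_left.trans (hP.le_of_ge (y := Z ⊔ P) ⟨sup_le a h1, fun n hn => norm_sup (b hn) (h2 hn), ?_⟩
      le_sup_right)
    exact IsPGroup.to_sup_of_normal_right' d h3 (a.trans h2)
  have hcj : ∀ (a : G) {Z : Subgroup G}, IsPGroup p Z → IsPGroup p (cj a Z) := fun a Z h => h.map _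
  have hH : H ≤ normalizer (P : Set G) := by
    intro h hh
    refine mem_normalizer_of fun y hy => hmax (cj h⁻¹ P) ?_ ?_ (hcj _ h3) (conj_mem_cj_inv hy)
    · rw [← cj_N0_eq c (inv_mem hh)]
      exact cj_mono _ h1
    · rw [normalizer_cj, ← cj_N0_eq c (inv_mem hh)]
      exact cj_mono _ h2
  by_contra hne
  have hP0 : P ≠ ⊥ := fun h => hne (eq_bot_iff.2 (h ▸ hmax Y hY hn hp))
  have hPH : P ≤ H := h1.trans (N0_le H g)
  have hN := norm_eq c hP0 hPH hH
  have hP'H : cj g P ≤ H := (cj_mono g h1).trans (cj_N0_le H g)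
  apply not_le_cj c hP0 hPH hH
  -- `P ⊓ N(g⁻¹ P g) ≤ g⁻¹ P g`
  have key : P ⊓ normalizer ((cj g P : Subgroup G) : Set G) ≤ cj g P := by
    rw [normalizer_cj, hN]
    have : cj g⁻¹ (P ⊓ cj g H) ≤ P := by
      refine hmax _ ?_ ?_ (hcj _ (h3.to_le inf_le_left))
      · rw [← cj_inv_cj g (N0 H g), cj_N0]
        exact cj_mono _ (inf_le_inf_right _ hPH)
      · rw [normalizer_cj, ← cj_inv_cj g (N0 H g), cj_N0]
        refine cj_mono _ fun x hx => norm_inf (hH hx.1) (le_normalizer hx.2)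
    rw [← cj_cj_inv g (P ⊓ cj g H)]
    exact cj_mono _ this
  -- normalizer condition in the `p`-group `(g⁻¹ P g) P`
  have hQ : IsPGroup p (cj g P ⊔ P : Subgroup G) := IsPGroup.to_sup_of_normal_right' (hcj g h3) h3 (hP'H.trans hH)
  have hnil : Group.IsNilpotent (cj g P ⊔ P : Subgroup G) := hQ.isNilpotent
  have hnc := Group.normalizerCondition_of_isNilpotent (G := (cj g P ⊔ P : Subgroup G))
  rw [normalizerCondition_iff_only_full_group_self_normalizing] at hnc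
  have := hnc ((cj g P).subgroupOf (cj g P ⊔ P)) (by
    rw [← subgroupOf_normalizer_eq le_sup_left]
    refine le_antisymm (fun x hx => ?_) (subgroupOf_mono _ le_normalizer)
    rw [mem_subgroupOf] at hx ⊢
    have hx2 : (x : G) ∈ ((cj g P ⊔ P : Subgroup G) : Set G) := x.2
    rw [coe_mul_of_left_le_normalizer_right _ _ (hP'H.trans hH)] at hx2
    obtain ⟨a, ha, b, hb, e⟩ := hx2
    have hb' : b ∈ normalizer ((cj g P : Subgroup G) : Set G) := by
      have : b = a⁻¹ * x := by rw [← e]; group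
      rw [this]
      exact mul_mem (inv_mem (le_normalizer ha)) hx
    rw [← e]
    exact mul_mem ha (key ⟨hb, hb'⟩))
  exact le_sup_right.trans (subgroupOf_eq_top.1 this)

end conf

/-- [R2] -/
theorem redSolv : RedSolv := by
  intro G _ _ S H g c Y hY hn hs
  by_contra hne
  obtain ⟨Z, hZ⟩ := Set.Finite.exists_minimal
    (s := {Z : Subgroup G | Z ≤ Y ∧ N0 H g ≤ normalizer (Z : Set G) ∧ Z ≠ ⊥}) (Set.toFinite _) ⟨Y, le_rfl, hn, hne⟩
  obtain ⟨h1, h2, h3⟩ := hZ.prop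
  have hZs : Group.IsSolvable Z := Group.isSolvable_of_isSolvable_injective (inclusion_injective h1)
  have hcomm : ⁅Z, Z⁆ = ⊥ := by
    by_contra h4
    have h5 : Z ≤ ⁅Z, Z⁆ := hZ.le_of_le (y := ⁅Z, Z⁆) ⟨(commutator_le_self Z).trans h1, fun n hn' => by
      have := cj_eq_iff.2 (h2 hn')
      rw [← cj_eq_iff]
      unfold cj at this ⊢
      rw [map_commutator, this], h4⟩ (commutator_le_self Z)
    exact h3 (TwoFusion.PerfCore.eq_bot_of_perfect_of_solvable (le_antisymm (commutator_le_self Z) h5) hZs)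
  have hab : ∀ a ∈ Z, ∀ b ∈ Z, Commute a b := fun a ha b hb =>
    (mem_centralizer_iff.1 (commutator_eq_bot_iff_le_centralizer.1 hcomm hb) a ha)
  have hcard : Nat.card Z ≠ 1 := fun h => h3 (card_eq_one.1 h)
  obtain ⟨p, hp, hd⟩ := Nat.exists_prime_and_dvd hcard
  have : Fact p.Prime := ⟨hp⟩
  obtain ⟨z, hz⟩ := exists_prime_orderOf_dvd_card' p hd
  let W : Subgroup G :=
    { carrier := {y | y ∈ Z ∧ y ^ p = 1}
      one_mem' := ⟨one_mem _, one_pow _⟩
      mul_mem' := fun {a b} ha hb => ⟨mul_mem ha.1 hb.1, by rw [(hab a ha.1 b hb.1).mul_pow, ha.2, hb.2, mul_one]⟩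
      inv_mem' := fun {a} ha => ⟨inv_mem ha.1, by rw [inv_pow, ha.2, inv_one]⟩ }
  have hW : W = ⊥ := pgroup_eq_bot (p := p) c (fun y hy => hY (h1 hy.1))
    (fun n hn' => mem_normalizer_of fun y hy => ⟨conj_mem_of_norm (h2 hn') hy.1, by rw [conj_pow, hy.2]; group⟩)
    (fun y => ⟨1, Subtype.ext (by simpa using y.2.2)⟩)
  have hzW : (z : G) ∈ W := ⟨z.2, by
    have := pow_orderOf_eq_one z
    rw [hz] at this
    exact congrArg Subtype.val this⟩
  rw [hW, mem_bot] at hzW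
  have : z = 1 := Subtype.ext hzW
  rw [this, orderOf_one] at hz
  exact hp.one_lt.ne hz

end Cfsg.Agent.Cam.Rd
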