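import Cfsg.Agent.Cam.Red.Diag
import Cfsg.Agent.H786.KW.Primes

/-!
# S3689, S3690: the reduction, part 4 (helper53)

Counting orbits on the components: `redCopy : RedCopy` (R4), `redRank : RedRank` (R6) and `red : Red`.
-/

set_option autoImplicit false

namespace Cfsg.Agent.Cam.Rd

open Subgroup Cfsg.Agent.Cam Cfsg.Agent.Cam.Spor
open scoped commutatorElement

section tools

/-- pairwise commuting copies of a non-abelian simple group generate their direct product -/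
theorem pi_inj {U K ι : Type*} [Group U] [Group K] [Fintype ι] (hs : IsSimpleGroup U) (hn : ¬ IsMulCommutative U)
    (φ : ι → (U →* K)) (hinj : ∀ i, Function.Injective (φ i))
    (hc : Pairwise fun i j => ∀ x y, Commute (φ i x) (φ j y)) :
    Function.Injective (MonoidHom.noncommPiCoprod (N := fun _ => U) φ hc) := by
  classical
  rw [injective_iff_map_eq_one]
  intro x hx
  funext j
  refine eq_one_of_comm hs hn fun v => ?_
  have h1 : ⁅x, (Pi.mulSingle j v : ι → U)⁆ = Pi.mulSingle j ⁅x j, v⁆ := by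
    funext i
    by_cases h : i = j
    · subst h
      simp [commutatorElement_def]
    · simp [commutatorElement_def, Pi.mulSingle_eq_of_ne h]
  have h2 := congrArg (MonoidHom.noncommPiCoprod (N := fun _ => U) φ hc) h1
  rw [map_commutatorElement, hx, commutatorElement_one_left, MonoidHom.noncommPiCoprod_mulSingle] at h2
  exact commutatorElement_eq_one_iff_mul_comm.1 (hinj j (h2.symm.trans (map_one _).symm))

/-- the permutations preserving the fibres of `f` -/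
def fib {α β : Type*} (f : α → β) : Subgroup (Equiv.Perm α) where
  carrier := {σ | f ∘ σ = f}
  one_mem' := rfl
  mul_mem' := fun {a b} ha hb => by
    funext x
    exact (congrFun ha (b x)).trans (congrFun hb x)
  inv_mem' := fun {a} ha => by
    funext x
    have := congrFun ha (a⁻¹ x)
    simpa using this.symm

theorem fib_count {α β : Type*} [Fintype α] [DecidableEq β] (f : α → β) {r a : ℕ} (hr : r.Prime)
    (h : r ^ a ∣ Nat.card (fib f)) : (r - 1) * a + (Finset.univ.image f).card ≤ Fintype.card α := by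
  classical
  have : Fact r.Prime := ⟨hr⟩
  have h1 : Nat.card (fib f) = ∏ i ∈ Finset.univ.image f, (Fintype.card {x // f x = i}).factorial := by
    rw [← DomMulAct.stabilizer_card' f, ← Nat.card_eq_fintype_card]
    rfl
  rw [h1] at h
  have h0 : ∀ i ∈ Finset.univ.image f, (Fintype.card {x // f x = i}).factorial ≠ 0 := fun i _ => Nat.factorial_ne_zero _
  have h2 := (hr.pow_dvd_iff_le_factorization (Finset.prod_ne_zero_iff.2 h0)).1 h
  rw [Nat.factorization_prod h0, Finset.sum_apply'] at h2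
  have h3 : Fintype.card α = ∑ i ∈ Finset.univ.image f, Fintype.card {x // f x = i} := by
    rw [← Finset.card_univ, Finset.card_eq_sum_card_image f]
    exact Finset.sum_congr rfl fun i _ => by rw [Fintype.card_subtype]
  rw [h3, Finset.card_eq_sum_ones]
  refine (Nat.add_le_add_right (Nat.mul_le_mul_left _ h2) _).trans ?_
  rw [Finset.mul_sum, ← Finset.sum_add_distrib]
  refine Finset.sum_le_sum fun i hi => ?_
  obtain ⟨x, -, hx⟩ := Finset.mem_image.1 hi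
  have h4 : Fintype.card {x // f x = i} ≠ 0 := by
    have : Nonempty {x // f x = i} := ⟨⟨x, hx⟩⟩
    exact Fintype.card_ne_zero
  have h5 := sub_one_mul_padicValNat_factorial_lt_of_ne_zero r h4
  rw [Nat.factorization_def _ hr]
  exact h5

end tools

section cls
variable {G : Type} [Group G] {S H : Subgroup G} {g : G} {𝒯 : Set (Subgroup G)}

/-- the action of `H` on `𝒯` -/
def act (c : Cls S H g 𝒯) : H →* Equiv.Perm 𝒯 :=
  MonoidHom.mk' (fun h =>
    { toFun := fun T => ⟨cj (h : G)⁻¹ T, c.inv _ (inv_mem h.2) _ T.2⟩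
      invFun := fun T => ⟨cj (h : G) T, c.inv _ h.2 _ T.2⟩
      left_inv := fun T => Subtype.ext (cj_cj_inv _ _)
      right_inv := fun T => Subtype.ext (cj_inv_cj _ _) }) fun a b => by
    ext T : 2
    change cj ((a : G) * b)⁻¹ T = cj (a : G)⁻¹ (cj (b : G)⁻¹ T)
    rw [mul_inv_rev, cj_mul]

theorem act_apply (c : Cls S H g 𝒯) (h : H) (T : 𝒯) : (act c h T : Subgroup G) = cj (h : G)⁻¹ T := rfl

theorem iso_T (c : Cls S H g 𝒯) {T₁ T₂ : Subgroup G} (h₁ : T₁ ∈ 𝒯) (h₂ : T₂ ∈ 𝒯) : Nonempty (T₁ ≃* T₂) := by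
  obtain ⟨γ, rfl⟩ := c.conj T₁ h₁ T₂ h₂
  exact ⟨cjEquiv γ T₁⟩

theorem iso_T' (c : Cls S H g 𝒯) {T₁ T₂ : Subgroup G} (h₁ : T₁ ∈ 𝒯) (h₂ : T₂ ∈ 𝒯) : Nonempty (T₁ ≃* cj g T₂) := by
  obtain ⟨e⟩ := iso_T c h₁ h₂
  exact ⟨e.trans (cjEquiv g T₂)⟩

variable (g 𝒯)

/-- the members `T₂` such that `g⁻¹ T₂ g` moves a member of `𝒯` -/
def Mov : Set (Subgroup G) := {T₂ | T₂ ∈ 𝒯 ∧ ¬ ∀ T ∈ 𝒯, cj g T₂ ≤ normalizer (T : Set G)}

/-- the members `T₂` such that `g⁻¹ T₂ g` centralizes all members of `𝒯` -/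
def Cen : Set (Subgroup G) := {T₂ | T₂ ∈ 𝒯 ∧ ∀ T ∈ 𝒯, cj g T₂ ≤ centralizer (T : Set G)}

/-- the others -/
def Cov : Set (Subgroup G) := {T₂ | T₂ ∈ 𝒯 ∧ (∀ T ∈ 𝒯, cj g T₂ ≤ normalizer (T : Set G)) ∧
  ¬ ∀ T ∈ 𝒯, cj g T₂ ≤ centralizer (T : Set G)}

variable {g 𝒯} [Finite G]

theorem ncard_le : 𝒯.ncard ≤ (Mov g 𝒯).ncard + (Cov g 𝒯).ncard + (Cen g 𝒯).ncard := by
  refine le_trans (Set.ncard_le_ncard (t := Mov g 𝒯 ∪ Cov g 𝒯 ∪ Cen g 𝒯) fun T hT => ?_)
    ((Set.ncard_union_le _ _).trans (Nat.add_le_add_right (Set.ncard_union_le _ _) _))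
  by_cases h1 : ∀ A ∈ 𝒯, cj g T ≤ normalizer (A : Set G)
  · by_cases h2 : ∀ A ∈ 𝒯, cj g T ≤ centralizer (A : Set G)
    · exact Or.inr ⟨hT, h2⟩
    · exact Or.inl (Or.inr ⟨hT, h1, h2⟩)
  · exact Or.inl (Or.inl ⟨hT, h1⟩)

theorem count (big : Big) (c : Cls S H g 𝒯) :
    4 * (Mov g 𝒯).ncard + (Cov g 𝒯).ncard ≤ 𝒯.ncard ∧ 4 * (Mov g 𝒯).ncard + 1 ≤ 𝒯.ncard := by
  classical
  obtain ⟨T₀, h₀⟩ := c.nonempty
  have hs := c.tsimple T₀ h₀
  obtain ⟨r, hr, h5, hd⟩ := H786.KW.exists_prime_ge_five (c.tnoncomm T₀ h₀)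
  have : Fintype 𝒯 := Fintype.ofFinite _
  have : Fintype (Mov g 𝒯) := Fintype.ofFinite _
  let f : 𝒯 → Set (Subgroup G) := fun T => {T₂ | T₂ ∈ Cov g 𝒯 ∧ ¬ cj g T₂ ≤ centralizer ((T : Subgroup G) : Set G)}
  let e : ∀ i : Mov g 𝒯, T₀ ≃* cj g i := fun i => (iso_T' c h₀ i.2.1).some
  let φ : Mov g 𝒯 → (T₀ →* Equiv.Perm 𝒯) := fun i =>
    (act c).comp ((inclusion (T'_le_H c i.2.1)).comp (e i).toMonoidHom)
  have hφ : ∀ i t (T : 𝒯), (φ i t T : Subgroup G) = cj ((e i t : G))⁻¹ T := fun _ _ _ => rfl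
  have hinj : ∀ i, Function.Injective (φ i) := by
    intro i
    rw [← MonoidHom.ker_eq_bot_iff]
    rcases hs.eq_bot_or_eq_top_of_normal (φ i).ker inferInstance with h | h
    · exact h
    · exfalso
      refine i.2.2 fun T hT y hy => ?_
      have h1 : φ i ((e i).symm ⟨y, hy⟩) = 1 := by
        rw [← MonoidHom.mem_ker, h]
        exact mem_top _
      have h2 := hφ i ((e i).symm ⟨y, hy⟩) ⟨T, hT⟩
      rw [h1, MulEquiv.apply_symm_apply] at h2
      exact inv_mem_iff.1 (cj_eq_iff.1 h2.symm)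
  have hc : Pairwise fun i j => ∀ x y, Commute (φ i x) (φ j y) := by
    intro i j hij x y
    refine Commute.map (Subtype.ext ?_) (act c)
    exact comm_T' c i.2.1 j.2.1 (fun h => hij (Subtype.ext h)) _ (e i x).2 _ (e j y).2
  have hle : (MonoidHom.noncommPiCoprod (N := fun _ => T₀) φ hc).range ≤ fib f := by
    rw [MonoidHom.noncommPiCoprod_range]
    refine iSup_le fun i => ?_
    rintro _ ⟨t, rfl⟩
    funext T
    ext T₃
    change (T₃ ∈ Cov g 𝒯 ∧ ¬ cj g T₃ ≤ centralizer ((φ i t T : Subgroup G) : Set G)) ↔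
      (T₃ ∈ Cov g 𝒯 ∧ ¬ cj g T₃ ≤ centralizer ((T : Subgroup G) : Set G))
    refine and_congr_right fun h₃ => not_congr ?_
    rw [hφ, centralizer_cj]
    have hne : (i : Subgroup G) ≠ T₃ := fun h => i.2.2 (h ▸ h₃.2.1)
    refine forall₂_congr fun z hz => ?_
    rw [mem_cj_inv, mul_assoc, ← comm_T' c i.2.1 h₃.1 hne _ (e i t).2 z hz, inv_mul_cancel_left]
  have h1 : r ^ (Mov g 𝒯).ncard ∣ Nat.card (fib f) := by
    refine dvd_trans ?_ (card_dvd_of_le hle)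
    rw [← Nat.card_congr (MonoidHom.ofInjective (pi_inj hs (c.tnoncomm T₀ h₀) φ hinj hc)).toEquiv, Nat.card_fun]
    exact pow_dvd_pow_of_dvd hd _
  have h2 := fib_count f hr h1
  rw [← Nat.card_eq_fintype_card, Nat.card_coe_set_eq] at h2
  have h3 : 4 * (Mov g 𝒯).ncard ≤ (r - 1) * (Mov g 𝒯).ncard := Nat.mul_le_mul_right _ (by omega)
  have h4 : (Cov g 𝒯).ncard ≤ (Finset.univ.image f).card := by
    rw [← Set.ncard_coe_finset]
    refine Set.ncard_le_ncard_of_injOn (fun T₂ => {T₂}) (fun T₂ h₂ => ?_) (fun _ _ _ _ h => Set.singleton_injective h)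
    obtain ⟨T, hT⟩ := not_forall.1 h₂.2.2
    obtain ⟨hT, hT'⟩ := Classical.not_imp.1 hT
    refine Finset.mem_coe.2 (Finset.mem_image.2 ⟨⟨T, hT⟩, Finset.mem_univ _, ?_⟩)
    ext T₃
    exact ⟨fun h₃ => supp_unique big c hT h₃.1.1 h₂.1 (h₃.1.2.1 T hT) (h₂.2.1 T hT) h₃.2 hT',
      fun h₃ => by rw [Set.mem_singleton_iff.1 h₃]; exact ⟨h₂, hT'⟩⟩
  have h6 : 1 ≤ (Finset.univ.image f).card :=
    Finset.card_pos.2 ⟨_, Finset.mem_image_of_mem f (Finset.mem_univ ⟨T₀, h₀⟩)⟩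
  omega

theorem three_le (big : Big) (c : Cls S H g 𝒯) (h : (Mov g 𝒯).Nonempty) : 5 ≤ 𝒯.ncard ∧ 3 ≤ (Cen g 𝒯).ncard := by
  have h1 := count big c
  have h2 := ncard_le (g := g) (𝒯 := 𝒯)
  have h3 := (Set.ncard_pos (Set.toFinite _)).2 h
  omega

/-- if no `g⁻¹ T g` moves a member of `𝒯` or centralizes `X`, all supports have one element -/
theorem supp_single (big : Big) (c : Cls S H g 𝒯) (hn : ∀ T₁ ∈ 𝒯, ∀ T₂ ∈ 𝒯, cj g T₂ ≤ normalizer (T₁ : Set G))
    (hC : Cen g 𝒯 = ∅) {T₁ T₂ T₃ : Subgroup G} (h₁ : T₁ ∈ 𝒯) (h₂ : T₂ ∈ 𝒯) (h₃ : T₃ ∈ 𝒯)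
    (c₁ : ¬ cj g T₂ ≤ centralizer (T₁ : Set G)) (c₃ : ¬ cj g T₂ ≤ centralizer (T₃ : Set G)) : T₁ = T₃ := by
  have hex : ∀ A : 𝒯, ∃ B : 𝒯, ¬ cj g A ≤ centralizer ((B : Subgroup G) : Set G) := by
    intro A
    by_contra h
    push Not at h
    have : (A : Subgroup G) ∈ Cen g 𝒯 := ⟨A.2, fun T hT => h ⟨T, hT⟩⟩
    rw [hC] at this
    exact this
  choose f hf using hex
  have hu : ∀ (A : 𝒯) (B : Subgroup G), B ∈ 𝒯 → ¬ cj g B ≤ centralizer ((f A : Subgroup G) : Set G) →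
      (A : Subgroup G) = B :=
    fun A B hB h => supp_unique big c (f A).2 A.2 hB (hn _ (f A).2 _ A.2) (hn _ (f A).2 _ hB) (hf A) h
  have hinj : Function.Injective f := fun A B h => Subtype.ext (hu A B B.2 (h ▸ hf B))
  have hsurj := Finite.surjective_of_injective hinj
  obtain ⟨A, hA⟩ := hsurj ⟨T₁, h₁⟩
  obtain ⟨B, hB⟩ := hsurj ⟨T₃, h₃⟩
  have e1 := hu A T₂ h₂ (by rw [hA]; exact c₁)
  have e2 := hu B T₂ h₂ (by rw [hB]; exact c₃)
  have e3 : A = B := Subtype.ext (e1.trans e2.symm)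
  rw [e3, hB] at hA
  exact (congrArg Subtype.val hA).symm

end cls

/-- [R4] -/
theorem redCopy : RedCopy := by
  intro big G _ _ S H g 𝒯 c T hT
  rcases (Cen g 𝒯).eq_empty_or_nonempty with hC | ⟨T₂, h₂, h₂'⟩
  · have hn : ∀ T₁ ∈ 𝒯, ∀ T₂ ∈ 𝒯, cj g T₂ ≤ normalizer (T₁ : Set G) := by
      intro T₁ h₁ T₂ h₂
      by_contra h
      have := (three_le big c ⟨T₂, h₂, fun h' => h (h' T₁ h₁)⟩).2
      rw [hC, Set.ncard_empty] at this
      omega
    obtain ⟨T₁, h₁, T₂, h₂, hc, hne⟩ := exists_proper c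
    obtain ⟨σ, hσ⟩ := proj_T' big c h₁ h₂ (hn T₁ h₁ T₂ h₂) hc
    obtain ⟨ψ, hψ, e⟩ := exists_diag (c.tsimple _ h₁) hne σ hσ
    obtain ⟨ε⟩ := iso_T c hT h₁
    refine ⟨ψ.comp ε.toMonoidHom, hψ.inj.comp ε.injective, fun t => ?_⟩
    change ψ (ε t) ∈ S ∧ ψ (ε t) ∈ _
    rw [e]
    refine ⟨mul_mem (inv_mem (c.le_S _ h₁ (ε t).2)) (T'_le_S c h₂ (σ _).2), mem_cent_sSup fun A hA => ?_⟩
    by_cases h : A = T₁
    · rw [h]
      exact hσ _
    · refine mul_mem (inv_mem (mem_centralizer_iff.2 fun a ha => c.comm A hA T₁ h₁ h a ha _ (ε t).2)) ?_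
      by_contra h'
      exact h (supp_single big c hn hC hA h₂ h₁ (fun h'' => h' (h'' (σ _).2)) hc)
  · obtain ⟨ε⟩ := iso_T' c hT h₂
    exact ⟨(cj g T₂).subtype.comp ε.toMonoidHom, (cj g T₂).subtype_injective.comp ε.injective,
      fun t => ⟨T'_le_S c h₂ (ε t).2, mem_cent_sSup fun A hA => h₂' A hA (ε t).2⟩⟩

/-- [R6] -/
theorem redRank : RedRank := by
  intro big G _ _ S H g 𝒯 c hr T₁ h₁ T₂ h₂
  by_contra h
  obtain ⟨h5, h3⟩ := three_le big c ⟨T₂, h₂, fun h' => h (h' T₁ h₁)⟩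
  have hs := c.tsimple T₁ h₁
  have : Fintype 𝒯 := Fintype.ofFinite _
  have : Fintype (Cen g 𝒯) := Fintype.ofFinite _
  obtain ⟨a⟩ : Nonempty (Fin 5 ↪ 𝒯) := Function.Embedding.nonempty_of_card_le (by
    rwa [Fintype.card_fin, ← Nat.card_eq_fintype_card, Nat.card_coe_set_eq])
  obtain ⟨b⟩ : Nonempty (Fin 3 ↪ Cen g 𝒯) := Function.Embedding.nonempty_of_card_le (by
    rwa [Fintype.card_fin, ← Nat.card_eq_fintype_card, Nat.card_coe_set_eq])
  let Y : Fin 5 ⊕ Fin 3 → Subgroup G := Sum.elim (fun i => a i) fun j => cj g (b j)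
  have hYS : ∀ i, Y i ≤ S := by
    rintro (i | j)
    · exact c.le_S _ (a i).2
    · exact T'_le_S c (b j).2.1
  have hiso : ∀ i, Nonempty (T₁ ≃* Y i) := by
    rintro (i | j)
    · exact iso_T c h₁ (a i).2
    · exact iso_T' c h₁ (b j).2.1
  have hcomm : ∀ i j, i ≠ j → ∀ x ∈ Y i, ∀ y ∈ Y j, x * y = y * x := by
    rintro (i | i) (j | j) hij x hx y hy
    · exact c.comm _ (a i).2 _ (a j).2 (fun e => hij (by rw [a.injective (Subtype.ext e)])) x hx y hy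
    · exact mem_centralizer_iff.1 ((b j).2.2 _ (a i).2 hy) x hx
    · exact (mem_centralizer_iff.1 ((b i).2.2 _ (a j).2 hx) y hy).symm
    · exact comm_T' c (b i).2.1 (b j).2.1 (fun e => hij (by rw [b.injective (Subtype.ext e)])) x hx y hy
  let ι : Fin 8 ≃ Fin 5 ⊕ Fin 3 := (finSumFinEquiv (m := 5) (n := 3)).symm
  let φ : Fin 8 → (T₁ →* S) := fun i => (inclusion (hYS (ι i))).comp (hiso (ι i)).some.toMonoidHom
  exact hr T₁ (c.tnoncomm T₁ h₁) _ (pi_inj hs (c.tnoncomm T₁ h₁) φ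
    (fun i => (inclusion_injective (hYS (ι i))).comp (hiso (ι i)).some.injective)
    fun i j hij x y => Subtype.ext (hcomm _ _ (fun e => hij (ι.injective e)) _ ((hiso (ι i)).some x).2 _
      ((hiso (ι j)).some y).2))

/-- **The reduction.** -/
theorem red : Red := ⟨redNorm, redSolv, redCls, redCopy, redDiag, redRank, redCent⟩

end Cfsg.Agent.Cam.Rd
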