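import Cfsg.Agent.Cam.Red.Comp

/-!
# S3689, S3690: the reduction, part 3 (helper53)

Projections onto a component, twisted diagonals; `redDiag : RedDiag` (R5).
-/

set_option autoImplicit false

namespace Cfsg.Agent.Cam.Rd

open Subgroup Cfsg.Agent.Cam Cfsg.Agent.Cam.Spor

section proj
variable {G : Type} [Group G]

theorem eq_one_of_mem_cent {T : Subgroup G} (hs : IsSimpleGroup T) (hn : ¬ IsMulCommutative T) {t : G} (ht : t ∈ T)
    (h : t ∈ centralizer (T : Set G)) : t = 1 :=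
  eq_one_of_comm' hs hn ht fun v hv => (mem_centralizer_iff.1 h v hv).symm

theorem mul_cent {T : Subgroup G} {t₁ t₂ y₁ y₂ : G} (ht : t₂ ∈ T) (h₁ : t₁⁻¹ * y₁ ∈ centralizer (T : Set G)) :
    (t₁ * t₂)⁻¹ * (y₁ * y₂) = t₁⁻¹ * y₁ * (t₂⁻¹ * y₂) := by
  have := mem_centralizer_iff.1 h₁ _ (inv_mem ht)
  calc (t₁ * t₂)⁻¹ * (y₁ * y₂) = t₂⁻¹ * (t₁⁻¹ * y₁) * y₂ := by group
    _ = _ := by rw [this]; group

theorem le_cent_symm {A B : Subgroup G} (h : A ≤ centralizer (B : Set G)) : B ≤ centralizer (A : Set G) :=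
  fun b hb => mem_centralizer_iff.2 fun _ ha => (mem_centralizer_iff.1 (h ha) b hb).symm

theorem mem_cent_sSup {s : Set (Subgroup G)} {y : G} (h : ∀ T ∈ s, y ∈ centralizer (T : Set G)) :
    y ∈ centralizer ((sSup s : Subgroup G) : Set G) := by
  have : sSup s ≤ centralizer ({y} : Set G) := sSup_le fun T hT t ht =>
    mem_centralizer_singleton_iff.2 (mem_centralizer_iff.1 (h T hT) t ht)
  exact mem_centralizer_iff.2 fun x hx => mem_centralizer_singleton_iff.1 (this hx)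

variable [Finite G]

/-- a simple group `Y` of the order of `T` which normalizes but does not centralize `T` projects onto `T` -/
theorem exists_proj (big : Big) {T Y : Subgroup G} (hT : IsSimpleGroup T) (hT' : ¬ IsMulCommutative T)
    (hY : IsSimpleGroup Y) (hY' : ¬ IsMulCommutative Y) (hcard : Nat.card Y = Nat.card T)
    (hn : Y ≤ normalizer (T : Set G)) (hc : ¬ Y ≤ centralizer (T : Set G)) :
    ∃ σ : T ≃* Y, ∀ t : T, (t : G)⁻¹ * σ t ∈ centralizer (T : Set G) := by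
  choose p hp hp' using fun y : Y => inner_of_perfect big hT (perfect_of_simple hY hY') hn y.2
  have huniq : ∀ (y : Y) (t : G), t ∈ T → t⁻¹ * y ∈ centralizer (T : Set G) → p y = t := by
    intro y t ht h
    have h1 := mul_mem h (inv_mem (hp' y))
    have h2 : t⁻¹ * y * ((p y)⁻¹ * y)⁻¹ = t⁻¹ * p y := by group
    rw [h2] at h1
    exact (inv_mul_eq_one.1 (eq_one_of_mem_cent hT hT' (mul_mem (inv_mem ht) (hp y)) h1)).symm
  let π : Y →* T := MonoidHom.mk' (fun y => ⟨p y, hp y⟩) fun a b => Subtype.ext (huniq _ _ (mul_mem (hp a) (hp b)) (by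
    change (p a * p b)⁻¹ * ((a : G) * b) ∈ _
    rw [mul_cent (hp b) (hp' a)]
    exact mul_mem (hp' a) (hp' b)))
  have hinj : Function.Injective π := by
    rw [← MonoidHom.ker_eq_bot_iff]
    rcases hY.eq_bot_or_eq_top_of_normal π.ker inferInstance with h | h
    · exact h
    · exfalso
      apply hc
      intro y hy
      have h1 : π ⟨y, hy⟩ = 1 := by
        rw [← MonoidHom.mem_ker, h]
        exact mem_top _
      have h2 : p ⟨y, hy⟩ = 1 := congrArg Subtype.val h1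
      have h3 := hp' ⟨y, hy⟩
      rwa [h2, inv_one, one_mul] at h3
  have hbij : Function.Bijective π := (Nat.bijective_iff_injective_and_card π).2 ⟨hinj, hcard⟩
  refine ⟨(MulEquiv.ofBijective π hbij).symm, fun t => ?_⟩
  have h1 := hp' ((MulEquiv.ofBijective π hbij).symm t)
  have h2 : p ((MulEquiv.ofBijective π hbij).symm t) = t :=
    congrArg Subtype.val ((MulEquiv.ofBijective π hbij).apply_symm_apply t)
  rwa [h2] at h1

omit [Finite G] in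
/-- two commuting groups cannot both project onto `T` -/
theorem not_two_proj {T Y Y' : Subgroup G} (hT : IsSimpleGroup T) (hT' : ¬ IsMulCommutative T)
    (hc : ∀ a ∈ Y, ∀ b ∈ Y', a * b = b * a) (σ : T ≃* Y) (σ' : T ≃* Y')
    (h : ∀ t : T, (t : G)⁻¹ * σ t ∈ centralizer (T : Set G))
    (h' : ∀ t : T, (t : G)⁻¹ * σ' t ∈ centralizer (T : Set G)) : False := by
  refine hT' ⟨⟨fun a b => Subtype.ext ?_⟩⟩
  have h1 := mul_mem (h a) (h' b)
  have h2 := mul_mem (h' b) (h a)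
  rw [← mul_cent b.2 (h a)] at h1
  rw [← mul_cent a.2 (h' b), ← hc _ (σ a).2 _ (σ' b).2] at h2
  have h3 := mul_mem h2 (inv_mem h1)
  have e : ((b : G) * a)⁻¹ * (σ a * σ' b) * (((a : G) * b)⁻¹ * (σ a * σ' b))⁻¹ = ((b : G) * a)⁻¹ * (a * b) := by group
  rw [e] at h3
  exact (inv_mul_eq_one.1 (eq_one_of_mem_cent hT hT' (mul_mem (inv_mem (mul_mem b.2 a.2)) (mul_mem a.2 b.2)) h3)).symm

/-- the twisted diagonal -/
theorem exists_diag {T Y : Subgroup G} (hT : IsSimpleGroup T) (hne : Y ≠ T) (σ : T ≃* Y)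
    (h : ∀ t : T, (t : G)⁻¹ * σ t ∈ centralizer (T : Set G)) :
    ∃ ψ : T →* G, Diag T ψ Y ∧ ∀ t : T, ψ t = (t : G)⁻¹ * σ t := by
  let ψ : T →* G := MonoidHom.mk' (fun t => (t : G)⁻¹ * σ t) fun a b => by
    rw [map_mul, coe_mul, coe_mul, mul_cent b.2 (h a)]
  have hψ : ∀ t : T, ψ t = (t : G)⁻¹ * σ t := fun _ => rfl
  refine ⟨ψ, ⟨?_, fun a ha t => mem_centralizer_iff.1 (h t) a ha, fun y => ⟨fun hy => ⟨σ.symm ⟨y, hy⟩, ?_⟩, ?_⟩⟩, hψ⟩
  · rw [← MonoidHom.ker_eq_bot_iff]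
    rcases hT.eq_bot_or_eq_top_of_normal ψ.ker inferInstance with h1 | h1
    · exact h1
    · exfalso
      apply hne
      refine (eq_of_le_of_card_ge (fun t ht => ?_) (Nat.card_congr σ.toEquiv).ge).symm
      have h2 : ψ ⟨t, ht⟩ = 1 := by
        rw [← MonoidHom.mem_ker, h1]
        exact mem_top _
      rw [hψ, inv_mul_eq_one] at h2
      change ((⟨t, ht⟩ : T) : G) ∈ Y
      rw [h2]
      exact (σ _).2
  · rw [hψ, MulEquiv.apply_symm_apply]
    group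
  · rintro ⟨t, rfl⟩
    rw [hψ, mul_inv_cancel_left]
    exact (σ t).2

end proj

section cls
variable {G : Type} [Group G] {S H : Subgroup G} {g : G} {𝒯 : Set (Subgroup G)}

theorem T_le_H (c : Cls S H g 𝒯) {T : Subgroup G} (hT : T ∈ 𝒯) : T ≤ H := (c.le_N0 T hT).trans (N0_le H g)

theorem T'_le_H (c : Cls S H g 𝒯) {T : Subgroup G} (hT : T ∈ 𝒯) : cj g T ≤ H :=
  (cj_mono g (c.le_N0 T hT)).trans (cj_N0_le H g)

theorem T'_le_S (c : Cls S H g 𝒯) {T : Subgroup G} (hT : T ∈ 𝒯) : cj g T ≤ S := by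
  rw [← cj_normal c.normal g]
  exact cj_mono g (c.le_S T hT)

theorem T_ne_bot' (c : Cls S H g 𝒯) {T : Subgroup G} (hT : T ∈ 𝒯) : T ≠ ⊥ := by
  have := c.tsimple T hT
  exact (nontrivial_iff_ne_bot T).1 inferInstance

theorem card_T' (c : Cls S H g 𝒯) {T₁ T₂ : Subgroup G} (h₁ : T₁ ∈ 𝒯) (h₂ : T₂ ∈ 𝒯) :
    Nat.card (cj g T₂) = Nat.card T₁ := by
  obtain ⟨γ, rfl⟩ := c.conj T₁ h₁ T₂ h₂
  rw [card_cj, card_cj]

theorem comm_T' (c : Cls S H g 𝒯) {T₁ T₂ : Subgroup G} (h₁ : T₁ ∈ 𝒯) (h₂ : T₂ ∈ 𝒯) (hne : T₁ ≠ T₂) :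
    ∀ a ∈ cj g T₁, ∀ b ∈ cj g T₂, a * b = b * a := by
  intro a ha b hb
  have := c.comm T₁ h₁ T₂ h₂ hne _ (mem_cj.1 ha) _ (mem_cj.1 hb)
  calc a * b = g⁻¹ * (g * a * g⁻¹ * (g * b * g⁻¹)) * g := by group
    _ = _ := by rw [this]; group

theorem X_le_H' (c : Cls S H g 𝒯) : sSup 𝒯 ≤ H := sSup_le fun _ hT => T_le_H c hT

theorem X_ne_bot (c : Cls S H g 𝒯) : sSup 𝒯 ≠ ⊥ := by
  obtain ⟨T, hT⟩ := c.nonempty
  exact fun h => T_ne_bot' c hT (eq_bot_iff.2 (h ▸ le_sSup hT))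

theorem X_norm_T (c : Cls S H g 𝒯) {T : Subgroup G} (hT : T ∈ 𝒯) : sSup 𝒯 ≤ normalizer (T : Set G) := by
  refine sSup_le fun A hA => ?_
  by_cases h : A = T
  · rw [h]
    exact le_normalizer
  · exact fun a ha => centralizer_le_normalizer _ (mem_centralizer_iff.2 fun t ht => (c.comm A hA T hT h a ha t ht).symm)

variable [Finite G]

theorem H_norm_X' (c : Cls S H g 𝒯) : H ≤ normalizer ((sSup 𝒯 : Subgroup G) : Set G) := fun a ha =>
  mem_normalizer_of fun _ hy =>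
    cj_sSup_le (a := a⁻¹) (fun T hT => le_sSup (c.inv _ (inv_mem ha) T hT)) (conj_mem_cj_inv hy)

theorem norm_X' (c : Cls S H g 𝒯) : normalizer ((sSup 𝒯 : Subgroup G) : Set G) = H :=
  norm_eq c.toConf (X_ne_bot c) (X_le_H' c) (H_norm_X' c)

/-- the members of `𝒯` are subnormal in every subgroup of `H` -/
theorem T_subnormal (c : Cls S H g 𝒯) {T M : Subgroup G} (hT : T ∈ 𝒯) (hM : M ≤ H) :
    (T.subgroupOf M).IsSubnormal := by
  have h1 : ((sSup 𝒯).subgroupOf M).Normal := normal_subgroupOf_of_le_normalizer (hM.trans (H_norm_X' c))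
  refine IsSubnormal.step _ _ (subgroupOf_mono M (le_sSup hT)) h1.isSubnormal ⟨fun t ht x => ?_⟩
  rw [mem_subgroupOf, mem_subgroupOf] at ht ⊢
  exact conj_mem_of_norm (X_norm_T c hT (mem_subgroupOf.1 x.2)) ht

/-- no member of `𝒯` centralizes `g⁻¹ X g` -/
theorem not_cent (c : Cls S H g 𝒯) {T : Subgroup G} (hT : T ∈ 𝒯) :
    ¬ T ≤ centralizer ((cj g (sSup 𝒯) : Subgroup G) : Set G) := by
  intro h
  have h1 : T ≤ cj g (N0 H g) := by
    rw [cj_N0]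
    refine le_inf (T_le_H c hT) (h.trans ((centralizer_le_normalizer _).trans ?_))
    rw [normalizer_cj, norm_X' c]
  have h2 := subnormal_cj g⁻¹ (T_subnormal c hT (cj_N0_le H g))
  have h3 := cj_mono g⁻¹ h1
  rw [cj_inv_cj] at h2 h3
  have h4 : T ≤ cj g (sSup 𝒯) := by
    rw [← cj_cj_inv g T]
    exact cj_mono g (le_sSup (c.closed T hT g⁻¹ h3 h2))
  exact c.tnoncomm T hT ⟨⟨fun a b => Subtype.ext (mem_centralizer_iff.1 (h b.2) a (h4 a.2))⟩⟩

theorem exists_cover (c : Cls S H g 𝒯) {T : Subgroup G} (hT : T ∈ 𝒯) :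
    ∃ T₂ ∈ 𝒯, ¬ cj g T₂ ≤ centralizer (T : Set G) := by
  by_contra h
  push Not at h
  exact not_cent c hT (le_cent_symm (cj_sSup_le h))

theorem proj_T' (big : Big) (c : Cls S H g 𝒯) {T₁ T₂ : Subgroup G} (h₁ : T₁ ∈ 𝒯) (h₂ : T₂ ∈ 𝒯)
    (hn : cj g T₂ ≤ normalizer (T₁ : Set G)) (hc : ¬ cj g T₂ ≤ centralizer (T₁ : Set G)) :
    ∃ σ : T₁ ≃* cj g T₂, ∀ t : T₁, (t : G)⁻¹ * σ t ∈ centralizer (T₁ : Set G) :=
  exists_proj big (c.tsimple _ h₁) (c.tnoncomm _ h₁) (simple_cj g (c.tsimple _ h₂)) (noncomm_cj g (c.tnoncomm _ h₂))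
    (card_T' c h₁ h₂) hn hc

/-- disjoint supports -/
theorem supp_unique (big : Big) (c : Cls S H g 𝒯) {T T₂ T₃ : Subgroup G} (hT : T ∈ 𝒯) (h₂ : T₂ ∈ 𝒯) (h₃ : T₃ ∈ 𝒯)
    (n₂ : cj g T₂ ≤ normalizer (T : Set G)) (n₃ : cj g T₃ ≤ normalizer (T : Set G))
    (c₂ : ¬ cj g T₂ ≤ centralizer (T : Set G)) (c₃ : ¬ cj g T₃ ≤ centralizer (T : Set G)) : T₂ = T₃ := by
  by_contra hne
  obtain ⟨σ, hσ⟩ := proj_T' big c hT h₂ n₂ c₂
  obtain ⟨σ', hσ'⟩ := proj_T' big c hT h₃ n₃ c₃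
  exact not_two_proj (c.tsimple _ hT) (c.tnoncomm _ hT) (comm_T' c h₂ h₃ hne) σ σ' hσ hσ'

/-- a perfect group normalizing all members of `𝒯` lies in `X C(X)` -/
theorem le_sup_cent (big : Big) (c : Cls S H g 𝒯) {Y : Subgroup G} (hY : ⁅Y, Y⁆ = Y)
    (hn : ∀ T ∈ 𝒯, Y ≤ normalizer (T : Set G)) :
    Y ≤ sSup 𝒯 ⊔ centralizer ((sSup 𝒯 : Subgroup G) : Set G) := by
  intro y hy
  have key : ∀ F : Set (Subgroup G), F.Finite → F ⊆ 𝒯 →
      ∃ x ∈ sSup F, ∀ T ∈ F, x⁻¹ * y ∈ centralizer (T : Set G) := by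
    intro F hF
    induction F, hF using Set.Finite.induction_on with
    | empty => exact fun _ => ⟨1, one_mem _, fun _ h => h.elim⟩
    | @insert T F hTF _ ih =>
      intro hsub
      have hT : T ∈ 𝒯 := hsub (Set.mem_insert _ _)
      have hF' : F ⊆ 𝒯 := fun A hA => hsub (Set.mem_insert_of_mem _ hA)
      obtain ⟨x, hx, hx'⟩ := ih hF'
      obtain ⟨t, ht, ht'⟩ := inner_of_perfect big (c.tsimple T hT) hY (hn T hT) hy
      have hxT : x ∈ centralizer (T : Set G) := by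
        refine (sSup_le fun A hA a ha => mem_centralizer_iff.2 fun v hv => ?_ : sSup F ≤ _) hx
        exact c.comm T hT A (hF' hA) (fun e => hTF (e ▸ hA)) v hv a ha
      have e1 : sSup F ≤ sSup (insert T F) := sSup_le_sSup (Set.subset_insert _ _)
      have e2 : T ≤ sSup (insert T F) := le_sSup (Set.mem_insert _ _)
      refine ⟨x * t, mul_mem (e1 hx) (e2 ht), ?_⟩
      rintro A (rfl | hA)
      · rw [← mem_centralizer_iff.1 hxT t ht, mul_inv_rev, mul_assoc]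
        exact mul_mem (inv_mem hxT) ht'
      · rw [mul_inv_rev, mul_assoc]
        refine mul_mem (inv_mem (mem_centralizer_iff.2 fun a ha => ?_)) (hx' A hA)
        exact c.comm A (hF' hA) T hT (fun e => hTF (e ▸ hA)) a ha t ht
  obtain ⟨x, hx, hx'⟩ := key 𝒯 (Set.toFinite _) le_rfl
  have : y = x * (x⁻¹ * y) := by group
  rw [this]
  exact mul_mem (mem_sup_left hx) (mem_sup_right (mem_cent_sSup hx'))

/-- some `g⁻¹ T₂ g` projects onto some `T₁` and is different from it -/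
theorem exists_proper (c : Cls S H g 𝒯) :
    ∃ T₁ ∈ 𝒯, ∃ T₂ ∈ 𝒯, ¬ cj g T₂ ≤ centralizer (T₁ : Set G) ∧ cj g T₂ ≠ T₁ := by
  by_contra h
  push Not at h
  refine not_le_cj c.toConf (X_ne_bot c) (X_le_H' c) (H_norm_X' c) (sSup_le fun T hT => ?_)
  obtain ⟨T₂, h₂, h₃⟩ := exists_cover c hT
  rw [← h T hT T₂ h₂ h₃]
  exact cj_mono g (le_sSup h₂)

end cls

/-- [R5] -/
theorem redDiag : RedDiag := by
  intro big G _ _ S H g 𝒯 c hn
  refine ⟨cj_sSup_le fun T hT => le_sup_cent big c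
    (perfect_of_simple (simple_cj g (c.tsimple T hT)) (noncomm_cj g (c.tnoncomm T hT))) fun A hA => hn A hA T hT,
    fun T hT => not_cent c hT, ?_⟩
  obtain ⟨T₁, h₁, T₂, h₂, hc, hne⟩ := exists_proper c
  obtain ⟨σ, hσ⟩ := proj_T' big c h₁ h₂ (hn T₁ h₁ T₂ h₂) hc
  obtain ⟨ψ, hψ, e⟩ := exists_diag (c.tsimple _ h₁) hne σ hσ
  refine ⟨T₁, h₁, T₂, h₂, ψ, hψ, fun t => ?_⟩
  rw [e]
  exact mem_inf.2 ⟨mul_mem (inv_mem (T_le_H c h₁ t.2)) (T'_le_H c h₂ (σ t).2),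
    mul_mem (inv_mem (c.le_S _ h₁ t.2)) (T'_le_S c h₂ (σ t).2)⟩

end Cfsg.Agent.Cam.Rd
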